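import Mathlib.RingTheory.GradedAlgebra.Basic
import Mathlib.RingTheory.Smooth.Basic
import Mathlib.RingTheory.MvPolynomial.Ideal
import Mathlib.LinearAlgebra.SymmetricAlgebra.Basic
import Mathlib.Algebra.Module.Projective
import Mathlib.Algebra.TrivSqZeroExt.Basic
import Mathlib.Order.WellQuasiOrder
import Mathlib.GroupTheory.Finiteness

/-!
# Smooth algebras graded by a sharp monoid are symmetric algebras
-/

set_option autoImplicit false
set_option linter.unusedSectionVars false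

universe u

open DirectSum TrivSqZeroExt

namespace Groth.Agent.Deform.GradedSmooth

/-- In a sharp cancellative finitely generated monoid, `a` strictly dividing `n` is well founded. -/
theorem wellFounded_lt {N : Type} [AddCommMonoid N] [AddMonoid.FG N] [IsCancelAdd N]
    (hz : ∀ x y : N, x + y = 0 → x = 0) : WellFounded (fun a n : N => ∃ b, b ≠ 0 ∧ a + b = n) := by
  classical
  rw [wellFounded_iff_isEmpty_descending_chain]
  refine ⟨fun ⟨f, hf⟩ => ?_⟩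
  obtain ⟨T, hT⟩ : ∃ T : Finset N, AddSubmonoid.closure (T : Set N) = ⊤ := AddMonoid.fg_def.mp ‹_›
  let p : (↥T → ℕ) →+ N :=
    { toFun := fun c => ∑ t, c t • (t : N)
      map_zero' := by simp
      map_add' := fun c c' => by simp [add_nsmul, Finset.sum_add_distrib] }
  have hp : Function.Surjective p := by
    rw [← AddMonoidHom.mrange_eq_top, eq_top_iff, ← hT, AddSubmonoid.closure_le]
    intro x hx
    refine ⟨Pi.single ⟨x, hx⟩ 1, ?_⟩
    show ∑ t, (Pi.single (⟨x, hx⟩ : ↥T) 1 : ↥T → ℕ) t • (t : N) = x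
    rw [Finset.sum_eq_single ⟨x, hx⟩]
    · simp
    · intro t _ ht; simp [Pi.single_eq_of_ne ht]
    · simp
  choose w hw using fun n => hp (f n)
  obtain ⟨i, j, hij, hle⟩ := (wellQuasiOrdered_le (α := ↥T → ℕ)) w
  have hdesc : ∀ i j, i < j → ∃ B, B ≠ 0 ∧ f j + B = f i := by
    intro i j hij
    induction j with
    | zero => omega
    | succ j ih =>
      obtain ⟨b, hb, hbe⟩ := hf j
      rcases Nat.lt_succ_iff_lt_or_eq.1 hij with h | h
      · obtain ⟨B, hB, hBe⟩ := ih h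
        exact ⟨b + B, fun h0 => hb (hz _ _ h0), by rw [← add_assoc, hbe, hBe]⟩
      · subst h; exact ⟨b, hb, hbe⟩
  obtain ⟨B, hB, hBe⟩ := hdesc i j hij
  have hc : f j = f i + p (w j - w i) := by
    rw [← hw i, ← hw j, ← map_add, show w i + (w j - w i) = w j from funext fun t => Nat.add_sub_cancel' (hle t)]
  rw [hc, add_assoc] at hBe
  have h0 : p (w j - w i) + B = 0 := add_eq_left.mp hBe
  exact hB (hz _ _ ((add_comm _ _).trans h0))

noncomputable section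

variable {R A : Type u} [CommRing R] [CommRing A] [Algebra R A] {N : Type} [AddCommMonoid N] [DecidableEq N]
  (𝒜 : N → Submodule R A) [GradedAlgebra 𝒜]

/-- The component of degree `n`. -/
abbrev pr (n : N) : A →ₗ[R] A := GradedAlgebra.proj 𝒜 n

theorem pr_mem (n : N) (a : A) : pr 𝒜 n a ∈ 𝒜 n := Submodule.coe_mem _

theorem pr_of_mem {n : N} {a : A} (h : a ∈ 𝒜 n) : pr 𝒜 n a = a := decompose_of_mem_same 𝒜 h

theorem pr_of_ne {m n : N} {a : A} (h : a ∈ 𝒜 m) (hne : m ≠ n) : pr 𝒜 n a = 0 := decompose_of_mem_ne 𝒜 h hne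

theorem pr_zero_mul (a₀ : 𝒜 0) (n : N) (x : A) : pr 𝒜 n ((a₀ : A) * x) = (a₀ : A) * pr 𝒜 n x := by
  refine DirectSum.Decomposition.inductionOn 𝒜 (by simp) (fun {i} y => ?_) (fun y z hy hz => ?_) x
  · have h : (a₀ : A) * y ∈ 𝒜 i := by simpa using SetLike.GradedMul.mul_mem a₀.2 y.2
    by_cases e : i = n
    · subst e; rw [pr_of_mem 𝒜 h, pr_of_mem 𝒜 y.2]
    · rw [pr_of_ne 𝒜 h e, pr_of_ne 𝒜 y.2 e, mul_zero]
  · rw [mul_add, map_add, hy, hz, map_add, mul_add]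

variable (hz : ∀ x y : N, x + y = 0 → x = 0)

/-- The projection onto degree zero. -/
def eps : A →ₐ[R] 𝒜 0 where
  toFun a := ⟨pr 𝒜 0 a, pr_mem 𝒜 0 a⟩
  map_one' := Subtype.ext (pr_of_mem 𝒜 SetLike.GradedOne.one_mem)
  map_zero' := Subtype.ext (map_zero _)
  map_add' a b := Subtype.ext (map_add _ a b)
  map_mul' a b := by
    refine Subtype.ext ?_
    show pr 𝒜 0 (a * b) = pr 𝒜 0 a * pr 𝒜 0 b
    refine DirectSum.Decomposition.inductionOn 𝒜 (by simp) (fun {i} y => ?_) (fun y z hy hz => ?_) a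
    · refine DirectSum.Decomposition.inductionOn 𝒜 (by simp) (fun {j} y' => ?_) (fun y' z' hy hz => ?_) b
      · by_cases e : i + j = 0
        · have hi : i = 0 := hz i j e
          have hj : j = 0 := hz j i ((add_comm _ _).trans e)
          subst hi; subst hj
          rw [pr_of_mem 𝒜 y.2, pr_of_mem 𝒜 y'.2, pr_of_mem 𝒜]
          simpa using SetLike.GradedMul.mul_mem y.2 y'.2
        · rw [pr_of_ne 𝒜 (SetLike.GradedMul.mul_mem y.2 y'.2) e]
          by_cases hi : i = 0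
          · have hj : j ≠ 0 := fun h => e (by rw [hi, h, add_zero])
            rw [pr_of_ne 𝒜 y'.2 hj, mul_zero]
          · rw [pr_of_ne 𝒜 y.2 hi, zero_mul]
      · rw [mul_add, map_add, hy, hz, map_add, mul_add]
    · rw [add_mul, map_add, hy, hz, map_add, add_mul]
  commutes' r := Subtype.ext ((pr_of_mem 𝒜 (SetLike.algebraMap_mem_graded _ r)).trans (by simp))

theorem coe_eps (a : A) : (eps 𝒜 hz a : A) = pr 𝒜 0 a := rfl

theorem eps_coe (a₀ : 𝒜 0) : eps 𝒜 hz (a₀ : A) = a₀ := Subtype.ext (pr_of_mem 𝒜 a₀.2)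

theorem eps_of_ne {n : N} {a : A} (h : a ∈ 𝒜 n) (hn : n ≠ 0) : eps 𝒜 hz a = 0 := Subtype.ext (pr_of_ne 𝒜 h hn)

/-- The elements without degree zero component. -/
def irr : Ideal A := RingHom.ker (eps 𝒜 hz)

theorem mem_irr {a : A} : a ∈ irr 𝒜 hz ↔ eps 𝒜 hz a = 0 := Iff.rfl

theorem sub_eps_mem (a : A) : a - (eps 𝒜 hz a : A) ∈ irr 𝒜 hz := by
  rw [mem_irr, map_sub, eps_coe, sub_self]

theorem pr_mem_irr {n : N} (hn : n ≠ 0) (a : A) : pr 𝒜 n a ∈ irr 𝒜 hz := eps_of_ne 𝒜 hz (pr_mem 𝒜 n a) hn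

theorem sub_eps_eq {a : A} (ha : a ∈ irr 𝒜 hz) : a - (eps 𝒜 hz a : A) = a := by
  rw [(mem_irr 𝒜 hz).1 ha]; simp

/-- Induction over the square of the irrelevant ideal by homogeneous products. -/
theorem sq_induction {p : A → Prop} (h0 : p 0) (hadd : ∀ x y, p x → p y → p (x + y))
    (hmul : ∀ i j, i ≠ 0 → j ≠ 0 → ∀ a ∈ 𝒜 i, ∀ b ∈ 𝒜 j, p (a * b)) {z : A} (h : z ∈ irr 𝒜 hz ^ 2) : p z := by
  have key : ∀ a b : A, p ((a - (eps 𝒜 hz a : A)) * (b - (eps 𝒜 hz b : A))) := by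
    intro a b
    refine DirectSum.Decomposition.inductionOn 𝒜 (by simpa using h0) (fun {i} y => ?_) (fun y y' hy hy' => ?_) a
    · refine DirectSum.Decomposition.inductionOn 𝒜 (by simpa using h0) (fun {j} y' => ?_) (fun x x' hx hx' => ?_) b
      · by_cases hi : i = 0
        · subst hi; rw [eps_coe, sub_self, zero_mul]; exact h0
        by_cases hj : j = 0
        · subst hj; rw [eps_coe, sub_self, mul_zero]; exact h0
        rw [eps_of_ne 𝒜 hz y.2 hi, eps_of_ne 𝒜 hz y'.2 hj]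
        simpa using hmul i j hi hj _ y.2 _ y'.2
      · rw [map_add, Submodule.coe_add, add_sub_add_comm, mul_add]
        exact hadd _ _ hx hx'
    · rw [map_add, Submodule.coe_add, add_sub_add_comm, add_mul]
      exact hadd _ _ hy hy'
  rw [pow_two] at h
  refine Submodule.mul_induction_on h (fun a ha b hb => ?_) hadd
  have := key a b
  rwa [sub_eps_eq 𝒜 hz ha, sub_eps_eq 𝒜 hz hb] at this

theorem pr_sq_mem (n : N) {z : A} (h : z ∈ irr 𝒜 hz ^ 2) : pr 𝒜 n z ∈ irr 𝒜 hz ^ 2 := by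
  refine sq_induction 𝒜 hz (p := fun z => pr 𝒜 n z ∈ irr 𝒜 hz ^ 2) (by simp)
    (fun x y hx hy => by rw [map_add]; exact add_mem hx hy) (fun i j hi hj a ha b hb => ?_) h
  by_cases e : i + j = n
  · subst e
    rw [pr_of_mem 𝒜 (SetLike.GradedMul.mul_mem ha hb), pow_two]
    exact Ideal.mul_mem_mul (eps_of_ne 𝒜 hz ha hi) (eps_of_ne 𝒜 hz hb hj)
  · rw [pr_of_ne 𝒜 (SetLike.GradedMul.mul_mem ha hb) e]; exact zero_mem _

theorem smul_eq (a₀ : 𝒜 0) (x : A) : a₀ • x = (a₀ : A) * x := by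
  rw [Algebra.smul_def, SetLike.GradeZero.algebraMap_apply]

variable {J : Type u} [Fintype J] (x : J → A) (d : J → N)

/-- Linear combinations of the generators. -/
def comb : (J → 𝒜 0) →ₗ[𝒜 0] A := Fintype.linearCombination (𝒜 0) x

theorem comb_apply (c : J → 𝒜 0) : comb 𝒜 x c = ∑ i, (c i : A) * x i := by
  simp [comb, Fintype.linearCombination_apply, smul_eq]

variable (hd : ∀ i, d i ≠ 0) (hx : ∀ i, x i ∈ 𝒜 (d i))

theorem comb_mem (c : J → 𝒜 0) (hx' : ∀ i, x i ∈ irr 𝒜 hz) : comb 𝒜 x c ∈ irr 𝒜 hz := by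
  rw [comb_apply]
  exact Ideal.sum_mem _ fun i _ => Ideal.mul_mem_left _ _ (hx' i)

include hx in
theorem pr_comb (n : N) (c : J → 𝒜 0) :
    pr 𝒜 n (comb 𝒜 x c) = ∑ i ∈ Finset.univ.filter (fun i => d i = n), (c i : A) * x i := by
  rw [comb_apply, map_sum, Finset.sum_filter]
  refine Finset.sum_congr rfl fun i _ => ?_
  rw [pr_zero_mul]
  split_ifs with e
  · subst e; rw [pr_of_mem 𝒜 (hx i)]
  · rw [pr_of_ne 𝒜 (hx i) e, mul_zero]

include hd hx in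
theorem exists_retraction [Algebra.FormallySmooth R A]
    (hQ : ∀ a : A, ∃ c, a - (eps 𝒜 hz a : A) - comb 𝒜 x c ∈ irr 𝒜 hz ^ 2) :
    ∃ τ : A →ₗ[𝒜 0] (J → 𝒜 0), (∀ z ∈ irr 𝒜 hz ^ 2, τ z = 0) ∧ (∀ a₀ : 𝒜 0, τ (a₀ : A) = 0) ∧
      (∀ a : A, a - (eps 𝒜 hz a : A) - comb 𝒜 x (τ a) ∈ irr 𝒜 hz ^ 2) ∧
      ∀ n, ∀ a ∈ 𝒜 n, ∀ i, d i ≠ n → τ a i = 0 := by
  classical
  haveI : IsScalarTower R (𝒜 0) A := IsScalarTower.of_algebraMap_eq fun _ => rfl
  have hxI : ∀ i, x i ∈ irr 𝒜 hz := fun i => eps_of_ne 𝒜 hz (hx i) (hd i)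
  let I := irr 𝒜 hz
  let q : A →ₐ[R] A ⧸ I ^ 2 := Ideal.Quotient.mkₐ R (I ^ 2)
  have hq : ∀ a, a ∈ I ^ 2 → q a = 0 := fun a ha => Ideal.Quotient.eq_zero_iff_mem.2 ha
  let G : TrivSqZeroExt (𝒜 0) (J → 𝒜 0) →ₐ[R] A ⧸ I ^ 2 :=
    TrivSqZeroExt.lift (q.comp (IsScalarTower.toAlgHom R (𝒜 0) A))
      (q.toLinearMap ∘ₗ (comb 𝒜 x).restrictScalars R)
      (fun c c' => by
        show q _ * q _ = 0
        rw [← map_mul]
        exact hq _ (by rw [pow_two]; exact Ideal.mul_mem_mul (comb_mem 𝒜 hz x c hxI) (comb_mem 𝒜 hz x c' hxI)))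
      (fun r c => by
        show q (comb 𝒜 x (r • c)) = q _ * q _
        rw [← map_mul, map_smul, smul_eq]; rfl)
      (fun r c => by
        show q (comb 𝒜 x (MulOpposite.op r • c)) = q _ * q _
        rw [op_smul_eq_smul, ← map_mul, map_smul, smul_eq, mul_comm]; rfl)
  have hG : ∀ u, G u = q ((u.fst : A) + comb 𝒜 x u.snd) := fun u => by rw [map_add]; rfl
  have hGs : Function.Surjective G := by
    intro y
    obtain ⟨a, rfl⟩ := Ideal.Quotient.mk_surjective y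
    obtain ⟨c, hc⟩ := hQ a
    refine ⟨TrivSqZeroExt.inl (eps 𝒜 hz a) + TrivSqZeroExt.inr c, ?_⟩
    rw [hG]
    refine Ideal.Quotient.eq.2 ?_
    simp only [TrivSqZeroExt.fst_add, TrivSqZeroExt.fst_inl, TrivSqZeroExt.fst_inr, add_zero, TrivSqZeroExt.snd_add,
      TrivSqZeroExt.snd_inl, TrivSqZeroExt.snd_inr, zero_add]
    have e : (eps 𝒜 hz a : A) + comb 𝒜 x c - a = -(a - (eps 𝒜 hz a : A) - comb 𝒜 x c) := by ring
    rw [e]
    exact neg_mem hc
  have hfst : ∀ u a, G u = q a → u.fst = eps 𝒜 hz a := by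
    intro u a h
    rw [hG] at h
    have h1 : (u.fst : A) + comb 𝒜 x u.snd - a ∈ I := Ideal.pow_le_self two_ne_zero (Ideal.Quotient.eq.1 h)
    rw [mem_irr, map_sub, map_add, eps_coe, (mem_irr 𝒜 hz).1 (comb_mem 𝒜 hz x _ hxI), add_zero, sub_eq_zero] at h1
    exact h1
  have hGn : IsNilpotent (RingHom.ker (G : TrivSqZeroExt (𝒜 0) (J → 𝒜 0) →+* A ⧸ I ^ 2)) := by
    refine ⟨2, ?_⟩
    show RingHom.ker (G : TrivSqZeroExt (𝒜 0) (J → 𝒜 0) →+* A ⧸ I ^ 2) ^ 2 = 0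
    rw [pow_two (RingHom.ker (G : TrivSqZeroExt (𝒜 0) (J → 𝒜 0) →+* A ⧸ I ^ 2))]
    rw [Ideal.zero_eq_bot, eq_bot_iff, Ideal.mul_le]
    intro u hu v hv
    have hu' := hfst u 0 (hu.trans (map_zero q).symm)
    have hv' := hfst v 0 (hv.trans (map_zero q).symm)
    rw [map_zero] at hu' hv'
    rw [Ideal.mem_bot]
    ext : 1
    · simp [hu']
    · simp [hu', hv']
  let L := Algebra.FormallySmooth.liftOfSurjective q G hGs hGn
  have hL : ∀ a, G (L a) = q a := Algebra.FormallySmooth.liftOfSurjective_apply q G hGs hGn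
  have hL1 : ∀ a, (L a).fst = eps 𝒜 hz a := fun a => hfst _ _ (hL a)
  let t : A → J → 𝒜 0 := fun a => (L a).snd
  have ht_add : ∀ a b, t (a + b) = t a + t b := fun a b => by simp [t]
  have ht_mul : ∀ a ∈ I, ∀ b ∈ I, t (a * b) = 0 := fun a ha b hb => by
    simp [t, hL1, (mem_irr 𝒜 hz).1 ha, (mem_irr 𝒜 hz).1 hb]
  have ht_smul : ∀ (a₀ : 𝒜 0), ∀ b ∈ I, t ((a₀ : A) * b) = a₀ • t b := fun a₀ b hb => by
    simp [t, hL1, (mem_irr 𝒜 hz).1 hb, eps_coe]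
  have ht_sq : ∀ z ∈ I ^ 2, t z = 0 := by
    intro z h
    rw [pow_two] at h
    exact Submodule.mul_induction_on h ht_mul fun a b ha hb => by rw [ht_add, ha, hb, add_zero]
  have ht_comb : ∀ a, (eps 𝒜 hz a : A) + comb 𝒜 x (t a) - a ∈ I ^ 2 := fun a => by
    have := hL a
    rw [hG, hL1] at this
    exact Ideal.Quotient.eq.1 this
  let τ : A →ₗ[𝒜 0] (J → 𝒜 0) :=
    { toFun := fun a i => t (pr 𝒜 (d i) a) i
      map_add' := fun a b => funext fun i => by rw [map_add, ht_add]; rfl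
      map_smul' := fun a₀ a => funext fun i => by
        rw [smul_eq, pr_zero_mul, ht_smul a₀ _ (pr_mem_irr 𝒜 hz (hd i) a)]; rfl }
  refine ⟨τ, fun z h => funext fun i => congrFun (ht_sq _ (pr_sq_mem 𝒜 hz _ h)) i,
    fun a₀ => funext fun i => ?_, fun a => ?_, fun n a ha i hi => ?_⟩
  · show t (pr 𝒜 (d i) (a₀ : A)) i = 0
    rw [pr_of_ne 𝒜 a₀.2 (hd i).symm, ht_sq 0 (zero_mem _)]; rfl
  swap
  · show t (pr 𝒜 (d i) a) i = 0
    rw [pr_of_ne 𝒜 ha (Ne.symm hi), ht_sq 0 (zero_mem _)]; rfl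
  let D := Finset.univ.image d
  have h1 : comb 𝒜 x (τ a) = ∑ n ∈ D, pr 𝒜 n (comb 𝒜 x (t (pr 𝒜 n a))) := by
    simp only [pr_comb 𝒜 x d hx]
    rw [comb_apply, ← Finset.sum_fiberwise_of_maps_to (t := D) (g := d) fun i _ => Finset.mem_image_of_mem d (Finset.mem_univ i)]
    refine Finset.sum_congr rfl fun n _ => Finset.sum_congr rfl fun i hi => ?_
    rw [← (Finset.mem_filter.1 hi).2]; rfl
  have h2 : comb 𝒜 x (τ a) - ∑ n ∈ D, pr 𝒜 n a ∈ I ^ 2 := by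
    rw [h1, ← Finset.sum_sub_distrib]
    refine Ideal.sum_mem _ fun n hn => ?_
    obtain ⟨i, -, rfl⟩ := Finset.mem_image.1 hn
    have h := pr_sq_mem 𝒜 hz (d i) (ht_comb (pr 𝒜 (d i) a))
    rw [map_sub, map_add, pr_of_mem 𝒜 (pr_mem 𝒜 (d i) a), eps_of_ne 𝒜 hz (pr_mem 𝒜 (d i) a) (hd i)] at h
    simpa using h
  obtain ⟨c, hc⟩ := hQ a
  have h3 : ∑ n ∈ D, pr 𝒜 n a - comb 𝒜 x c ∈ I ^ 2 := by
    have e1 : ∀ n ∈ D, pr 𝒜 n (eps 𝒜 hz a : A) = 0 := fun n hn => by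
      obtain ⟨i, -, rfl⟩ := Finset.mem_image.1 hn
      exact pr_of_ne 𝒜 (eps 𝒜 hz a).2 (hd i).symm
    have e2 : ∑ n ∈ D, pr 𝒜 n (comb 𝒜 x c) = comb 𝒜 x c := by
      simp only [pr_comb 𝒜 x d hx]
      rw [comb_apply, Finset.sum_fiberwise_of_maps_to (t := D) (g := d) fun i _ => Finset.mem_image_of_mem d (Finset.mem_univ i)]
    have : ∑ n ∈ D, pr 𝒜 n (a - (eps 𝒜 hz a : A) - comb 𝒜 x c) ∈ I ^ 2 :=
      Ideal.sum_mem _ fun n _ => pr_sq_mem 𝒜 hz n hc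
    simp only [map_sub, Finset.sum_sub_distrib, e2, Finset.sum_eq_zero e1, sub_zero] at this
    exact this
  have e : a - (eps 𝒜 hz a : A) - comb 𝒜 x (τ a) =
      (a - (eps 𝒜 hz a : A) - comb 𝒜 x c) - (comb 𝒜 x (τ a) - ∑ n ∈ D, pr 𝒜 n a) - (∑ n ∈ D, pr 𝒜 n a - comb 𝒜 x c) := by
    ring
  rw [e]
  exact sub_mem (sub_mem hc h2) h3

end

end Groth.Agent.Deform.GradedSmooth
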