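import Groth.Agent.Deform.GradedSmooth.Basic
import Mathlib.RingTheory.Smooth.Basic
import Mathlib.RingTheory.FiniteType

/-!
# The symmetric algebra on the generators is the graded smooth algebra
-/

set_option autoImplicit false
set_option linter.unusedSectionVars false
set_option linter.style.haveILetI false

universe u

open DirectSum
open MvPolynomial (idealOfVars)

namespace Groth.Agent.Deform.GradedSmooth

noncomputable section

variable {R A : Type u} [CommRing R] [CommRing A] [Algebra R A] {N : Type} [AddCommMonoid N] [DecidableEq N]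
  (𝒜 : N → Submodule R A) [GradedAlgebra 𝒜] (hz : ∀ x y : N, x + y = 0 → x = 0)

/-- Finitely many homogeneous elements generate modulo the square of the irrelevant ideal. -/
theorem exists_gens [Algebra.FiniteType R A] :
    ∃ (J : Type u) (_ : Fintype J) (x : J → A) (d : J → N), (∀ i, d i ≠ 0) ∧ (∀ i, x i ∈ 𝒜 (d i)) ∧
      ∀ a : A, ∃ c, a - (eps 𝒜 hz a : A) - comb 𝒜 x c ∈ irr 𝒜 hz ^ 2 := by
  classical
  obtain ⟨s, hs⟩ := Algebra.FiniteType.out (R := R) (A := A)
  let T : Finset (A × N) := s.biUnion fun g =>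
    ((DirectSum.decompose 𝒜 g).support.filter fun n => n ≠ 0).image fun n => (g, n)
  have hT : ∀ p ∈ T, p.2 ≠ 0 := by
    intro p hp
    obtain ⟨g, -, hp⟩ := Finset.mem_biUnion.1 hp
    obtain ⟨n, hn, rfl⟩ := Finset.mem_image.1 hp
    exact (Finset.mem_filter.1 hn).2
  refine ⟨↥T, inferInstance, fun p => pr 𝒜 p.1.2 p.1.1, fun p => p.1.2, fun p => hT _ p.2,
    fun p => pr_mem 𝒜 _ _, fun a => ?_⟩
  let x : ↥T → A := fun p => pr 𝒜 p.1.2 p.1.1
  let Q : A → Prop := fun a => ∃ c, a - (eps 𝒜 hz a : A) - comb 𝒜 x c ∈ irr 𝒜 hz ^ 2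
  have hQ0 : ∀ a₀ : 𝒜 0, Q (a₀ : A) := fun a₀ => ⟨0, by rw [eps_coe, map_zero]; simp⟩
  have hQadd : ∀ a b, Q a → Q b → Q (a + b) := by
    rintro a b ⟨c, hc⟩ ⟨c', hc'⟩
    refine ⟨c + c', ?_⟩
    have e : a + b - (eps 𝒜 hz (a + b) : A) - comb 𝒜 x (c + c') =
        (a - (eps 𝒜 hz a : A) - comb 𝒜 x c) + (b - (eps 𝒜 hz b : A) - comb 𝒜 x c') := by
      rw [map_add, map_add, Submodule.coe_add]; ring
    rw [e]; exact add_mem hc hc'
  have hQmul : ∀ a b, Q a → Q b → Q (a * b) := by
    rintro a b ⟨c, hc⟩ ⟨c', hc'⟩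
    refine ⟨eps 𝒜 hz a • c' + eps 𝒜 hz b • c, ?_⟩
    have e : a * b - (eps 𝒜 hz (a * b) : A) - comb 𝒜 x (eps 𝒜 hz a • c' + eps 𝒜 hz b • c) =
        (eps 𝒜 hz a : A) * (b - (eps 𝒜 hz b : A) - comb 𝒜 x c') +
          (eps 𝒜 hz b : A) * (a - (eps 𝒜 hz a : A) - comb 𝒜 x c) +
          (a - (eps 𝒜 hz a : A)) * (b - (eps 𝒜 hz b : A)) := by
      rw [map_mul, map_add, map_smul, map_smul, smul_eq, smul_eq]
      show a * b - (eps 𝒜 hz a : A) * (eps 𝒜 hz b : A) - _ = _
      ring
    rw [e]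
    refine add_mem (add_mem (Ideal.mul_mem_left _ _ hc') (Ideal.mul_mem_left _ _ hc)) ?_
    rw [pow_two]
    exact Ideal.mul_mem_mul (sub_eps_mem 𝒜 hz a) (sub_eps_mem 𝒜 hz b)
  have hQalg : ∀ r, Q (algebraMap R A r) := fun r => hQ0 ⟨_, SetLike.algebraMap_mem_graded 𝒜 r⟩
  have hQs : ∀ g ∈ s, Q g := by
    intro g hg
    suffices ∀ F : Finset N, F ⊆ (DirectSum.decompose 𝒜 g).support → Q (∑ n ∈ F, pr 𝒜 n g) by
      have h := this _ subset_rfl
      rwa [show (∑ n ∈ (DirectSum.decompose 𝒜 g).support, pr 𝒜 n g) = g from DirectSum.sum_support_decompose 𝒜 g] at h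
    intro F
    induction F using Finset.induction_on with
    | empty => intro _; simpa using hQalg 0
    | insert n F hn ih =>
      intro h
      rw [Finset.sum_insert hn]
      refine hQadd _ _ ?_ (ih ((Finset.subset_insert n F).trans h))
      by_cases e : n = 0
      · subst e; exact hQ0 ⟨_, pr_mem 𝒜 0 g⟩
      · have hp : (g, n) ∈ T := Finset.mem_biUnion.2 ⟨g, hg,
          Finset.mem_image.2 ⟨n, Finset.mem_filter.2 ⟨h (Finset.mem_insert_self n F), e⟩, rfl⟩⟩
        refine ⟨Pi.single ⟨(g, n), hp⟩ 1, ?_⟩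
        rw [eps_of_ne 𝒜 hz (pr_mem 𝒜 n g) e, comb, Fintype.linearCombination_apply_single]
        simp [x]
  have ha : a ∈ Algebra.adjoin R (s : Set A) := by rw [hs]; trivial
  exact Algebra.adjoin_induction hQs hQalg (fun a b _ _ => hQadd a b) (fun a b _ _ => hQmul a b) ha

theorem comb_eq_sum {B : Type u} [CommRing B] {M : Type u} [AddCommGroup M] [Module B M] {J : Type u} [Fintype J]
    [DecidableEq J] (f : (J → B) →ₗ[B] M) (c : J → B) : f c = ∑ i, c i • f (Pi.single i 1) := by
  conv_lhs => rw [pi_eq_sum_univ' c]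
  rw [map_sum]
  exact Finset.sum_congr rfl fun i _ => map_smul f _ _

/-- The comparison map is injective. -/
theorem injective_lift {B : Type u} [CommRing B] [Algebra R B] [Algebra B A] [IsScalarTower R B A]
    [Algebra.FormallySmooth R A] {J : Type u} [Fintype J] [DecidableEq J] (ε : A →ₐ[R] B)
    (hε : ∀ b, ε (algebraMap B A b) = b) (P : Submodule B (J → B)) (sec : (J → B) →ₗ[B] P)
    (hsec : sec ∘ₗ P.subtype = LinearMap.id) (τ : A →ₗ[B] (J → B)) (hτsq : ∀ z ∈ RingHom.ker ε ^ 2, τ z = 0)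
    (hτ0 : ∀ b, τ (algebraMap B A b) = 0) (f : P →ₗ[B] A) (hf : ∀ p, ε (f p) = 0 ∧ τ (f p) = p) :
    Function.Injective (SymmetricAlgebra.lift f : SymmetricAlgebra B P →ₐ[B] A) := by
  let φ : SymmetricAlgebra B P →ₐ[B] A := SymmetricAlgebra.lift f
  let ιS : P →ₗ[B] SymmetricAlgebra B P := SymmetricAlgebra.ι B P
  have hmem : ∀ a : A, a - algebraMap B A (ε a) ∈ RingHom.ker ε := fun a => by
    rw [RingHom.mem_ker, map_sub, hε, sub_self]
  let V : Ideal (MvPolynomial J B) := idealOfVars J B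
  let X₁ : (J → B) →ₗ[B] (MvPolynomial J B) := Fintype.linearCombination B MvPolynomial.X
  have hX₁ : ∀ c, X₁ c ∈ V := fun c => by
    rw [Fintype.linearCombination_apply]
    exact Ideal.sum_mem _ fun i _ => Submodule.smul_of_tower_mem V _ (Ideal.subset_span ⟨i, rfl⟩)
  let ι' : (SymmetricAlgebra B P) →ₐ[B] (MvPolynomial J B) := SymmetricAlgebra.lift (X₁ ∘ₗ P.subtype)
  let ρ : (MvPolynomial J B) →ₐ[B] (SymmetricAlgebra B P) := MvPolynomial.aeval fun i => ιS (sec (Pi.single i 1))
  have hρι : ρ.comp ι' = AlgHom.id B (SymmetricAlgebra B P) := SymmetricAlgebra.algHom_ext (LinearMap.ext fun p => by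
    show ρ (ι' (ιS p)) = ιS p
    rw [show ι' (ιS p) = X₁ (p : J → B) from SymmetricAlgebra.lift_ι_apply _ p, Fintype.linearCombination_apply,
      map_sum]
    refine Eq.trans ?_ (congrArg ιS (LinearMap.congr_fun hsec p))
    show _ = (ιS ∘ₗ sec) (p : J → B)
    refine Eq.trans ?_ (comb_eq_sum (M := SymmetricAlgebra B P) (ιS ∘ₗ sec) (p : J → B)).symm
    refine Finset.sum_congr rfl fun i _ => ?_
    rw [map_smul, MvPolynomial.aeval_X]; rfl)
  have hρι' : ∀ s, ρ (ι' s) = s := fun s => AlgHom.congr_fun hρι s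
  let Sp : Ideal (SymmetricAlgebra B P) := RingHom.ker (SymmetricAlgebra.algebraMapInv : (SymmetricAlgebra B P) →ₐ[B] B)
  have hιSp : Sp.map ι' ≤ V := by
    rw [Ideal.map_le_iff_le_comap]
    intro s h
    show ι' s ∈ V
    have key : (MvPolynomial.aeval (fun _ : J => (0 : B))).comp ι' =
        (SymmetricAlgebra.algebraMapInv : (SymmetricAlgebra B P) →ₐ[B] B) :=
      SymmetricAlgebra.algHom_ext (LinearMap.ext fun p => by
        show MvPolynomial.aeval (fun _ : J => (0 : B)) (ι' (ιS p)) = SymmetricAlgebra.algebraMapInv (ιS p)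
        rw [show ι' (ιS p) = X₁ (p : J → B) from SymmetricAlgebra.lift_ι_apply _ p,
          SymmetricAlgebra.algebraMapInv_ι, Fintype.linearCombination_apply, map_sum]
        exact Finset.sum_eq_zero fun i _ => by rw [map_smul, MvPolynomial.aeval_X, smul_zero])
    have h0 := AlgHom.congr_fun key s
    rw [show SymmetricAlgebra.algebraMapInv s = 0 from h, AlgHom.comp_apply] at h0
    rw [show V = idealOfVars J B ^ 1 from (pow_one _).symm, MvPolynomial.mem_pow_idealOfVars_iff']
    intro m hm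
    have hm0 : m = 0 := (Finsupp.degree_eq_zero_iff m).1 (Nat.lt_one_iff.1 hm)
    subst hm0
    simpa [MvPolynomial.constantCoeff_eq] using h0
  have hρV : V.map ρ ≤ Sp := by
    rw [Ideal.map_le_iff_le_comap, Ideal.span_le]
    rintro _ ⟨i, rfl⟩
    show SymmetricAlgebra.algebraMapInv (ρ (MvPolynomial.X i)) = 0
    rw [MvPolynomial.aeval_X]
    exact SymmetricAlgebra.algebraMapInv_ι _
  let χ₀ : A →ₗ[R] (MvPolynomial J B) ⧸ V ^ 2 :=
    ((Ideal.Quotient.mkₐ R (V ^ 2)).toLinearMap).comp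
      ((Algebra.linearMap B (MvPolynomial J B)).restrictScalars R ∘ₗ (ε).toLinearMap + X₁.restrictScalars R ∘ₗ τ.restrictScalars R)
  have hχ₀ : ∀ a, χ₀ a = Ideal.Quotient.mk (V ^ 2) (algebraMap B (MvPolynomial J B) (ε a) + X₁ (τ a)) := fun a => rfl
  let χ : A →ₐ[R] (MvPolynomial J B) ⧸ V ^ 2 := AlgHom.ofLinearMap χ₀
    (by
      have h1 : τ (1 : A) = 0 := by rw [← map_one (algebraMap B A)]; exact hτ0 1
      rw [hχ₀, map_one, h1, map_zero, map_one, add_zero, map_one])
    (fun a b => by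
      rw [hχ₀, hχ₀, hχ₀, ← map_mul, Ideal.Quotient.eq]
      have hd' : τ (a * b) = ε a • τ b + ε b • τ a := by
        have h : (a - algebraMap B A (ε a)) * (b - algebraMap B A (ε b)) ∈ RingHom.ker ε ^ 2 := by
          rw [pow_two]; exact Ideal.mul_mem_mul (hmem a) (hmem b)
        have h' := hτsq _ h
        have e' : (a - algebraMap B A (ε a)) * (b - algebraMap B A (ε b)) =
            a * b - ε a • b - ε b • a + algebraMap B A (ε a * ε b) := by
          rw [Algebra.smul_def, Algebra.smul_def, map_mul]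
          ring
        rw [e', map_add, map_sub, map_sub, map_smul, map_smul, hτ0, add_zero, sub_sub, sub_eq_zero] at h'
        exact h'
      rw [hd', map_add, map_smul, map_smul, map_mul (ε), map_mul (algebraMap B (MvPolynomial J B)), Algebra.smul_def, Algebra.smul_def]
      have e' : algebraMap B (MvPolynomial J B) (ε a) * algebraMap B (MvPolynomial J B) (ε b) +
          (algebraMap B (MvPolynomial J B) (ε a) * X₁ (τ b) + algebraMap B (MvPolynomial J B) (ε b) * X₁ (τ a)) -
          (algebraMap B (MvPolynomial J B) (ε a) + X₁ (τ a)) * (algebraMap B (MvPolynomial J B) (ε b) + X₁ (τ b)) =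
          -(X₁ (τ a) * X₁ (τ b)) := by ring
      rw [e', pow_two]
      exact neg_mem (Ideal.mul_mem_mul (hX₁ _) (hX₁ _)))
  have hχφ : ∀ s, χ (φ s) = Ideal.Quotient.mk (V ^ 2) (ι' s) := by
    intro s
    induction s using SymmetricAlgebra.induction with
    | algebraMap a₀ =>
      rw [φ.commutes, ι'.commutes]
      show χ₀ (algebraMap B A a₀) = _
      rw [hχ₀, hε, hτ0, map_zero, add_zero]
    | ι p =>
      rw [show φ (SymmetricAlgebra.ι B P p) = f p from SymmetricAlgebra.lift_ι_apply _ p,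
        show ι' (SymmetricAlgebra.ι B P p) = X₁ (p : J → B) from SymmetricAlgebra.lift_ι_apply _ p]
      show χ₀ (f p) = _
      rw [hχ₀, (hf p).1, (hf p).2, map_zero, zero_add]
    | mul a b ha hb => rw [map_mul, map_mul, map_mul, ha, hb, map_mul]
    | add a b ha hb => rw [map_add, map_add, map_add, ha, hb, map_add]
  show Function.Injective φ
  rw [injective_iff_map_eq_zero]
  intro s hs
  have hall : ∀ j, s ∈ Sp ^ j := by
    intro j
    induction j with
    | zero => simp
    | succ j ih =>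
      let d' := j + 2
      let fq : (MvPolynomial J B) ⧸ V ^ d' →ₐ[R] (MvPolynomial J B) ⧸ V ^ 2 := Ideal.Quotient.factorₐ R (Ideal.pow_le_pow_right (show 2 ≤ j + 2 by omega))
      have hfs : Function.Surjective fq := Ideal.Quotient.factor_surjective (Ideal.pow_le_pow_right (show 2 ≤ j + 2 by omega))
      have hfk : ∀ m, fq (Ideal.Quotient.mk _ m) = Ideal.Quotient.mk _ m := fun m => rfl
      let W : Ideal ((MvPolynomial J B) ⧸ V ^ d') := V.map (Ideal.Quotient.mk (V ^ d'))
      have hkW : ∀ y, fq y = 0 → y ∈ W ^ 2 := by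
        intro y hy
        obtain ⟨m, rfl⟩ := Ideal.Quotient.mk_surjective y
        rw [← Ideal.map_pow]
        exact Ideal.mem_map_of_mem _ (Ideal.Quotient.eq_zero_iff_mem.1 ((hfk m).symm.trans hy))
      have hWd : W ^ d' = ⊥ := by rw [← Ideal.map_pow, Ideal.map_quotient_self]
      have hfn : IsNilpotent (RingHom.ker (fq : (MvPolynomial J B) ⧸ V ^ d' →+* (MvPolynomial J B) ⧸ V ^ 2)) := by
        refine ⟨d', ?_⟩
        show RingHom.ker (fq : (MvPolynomial J B) ⧸ V ^ d' →+* (MvPolynomial J B) ⧸ V ^ 2) ^ d' = 0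
        rw [Ideal.zero_eq_bot, eq_bot_iff, ← hWd]
        exact Ideal.pow_right_mono (fun y hy => Ideal.pow_le_self two_ne_zero (hkW y hy)) d'
      let g := Algebra.FormallySmooth.liftOfSurjective χ fq hfs hfn
      let m₁ : (SymmetricAlgebra B P) → (MvPolynomial J B) ⧸ V ^ d' := fun t => Ideal.Quotient.mk _ (ι' t)
      let h : (SymmetricAlgebra B P) → (MvPolynomial J B) ⧸ V ^ d' := fun t => g (φ t)
      have hh : ∀ t, h t - m₁ t ∈ W ^ 2 := fun t => hkW _ (by
        rw [map_sub, Algebra.FormallySmooth.liftOfSurjective_apply, hfk, hχφ, sub_self])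
      have hm1 : ∀ t ∈ Sp, m₁ t ∈ W := fun t ht =>
        Ideal.mem_map_of_mem _ (hιSp (Ideal.mem_map_of_mem _ ht))
      have hh1 : ∀ t ∈ Sp, h t ∈ W := fun t ht => by
        simpa using add_mem (Ideal.pow_le_self two_ne_zero (hh t)) (hm1 t ht)
      have claim : ∀ i, ∀ t ∈ Sp ^ i, h t - m₁ t ∈ W ^ (i + 1) ∧ m₁ t ∈ W ^ i := by
        intro i
        induction i with
        | zero => exact fun t _ => ⟨by rw [zero_add, pow_one W]; exact Ideal.pow_le_self two_ne_zero (hh t), by rw [pow_zero W, Ideal.one_eq_top]; trivial⟩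
        | succ i IH =>
          intro t ht
          rw [pow_succ] at ht
          refine Submodule.mul_induction_on ht (fun a ha b hb => ?_) (fun a b ha hb => ?_)
          · obtain ⟨h1, h2⟩ := IH a ha
            have e1 : h (a * b) = h a * h b := by simp only [h, map_mul]
            have e2 : m₁ (a * b) = m₁ a * m₁ b := by simp only [m₁, map_mul]
            refine ⟨?_, ?_⟩
            · rw [e1, e2, show h a * h b - m₁ a * m₁ b = (h a - m₁ a) * h b + m₁ a * (h b - m₁ b) by ring]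
              refine add_mem ?_ ?_
              · rw [pow_succ W (i + 1)]; exact Ideal.mul_mem_mul h1 (hh1 b hb)
              · rw [show i + 1 + 1 = i + 2 from rfl, pow_add W i 2]; exact Ideal.mul_mem_mul h2 (hh b)
            · rw [e2, pow_succ W i]; exact Ideal.mul_mem_mul h2 (hm1 b hb)
          · refine ⟨?_, ?_⟩
            · rw [show h (a + b) - m₁ (a + b) = (h a - m₁ a) + (h b - m₁ b) by simp only [h, m₁, map_add]; ring]
              exact add_mem ha.1 hb.1
            · rw [show m₁ (a + b) = m₁ a + m₁ b by simp only [m₁, map_add]]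
              exact add_mem ha.2 hb.2
      have h1 := (claim j s ih).1
      rw [show h s = 0 by simp only [h]; rw [hs, map_zero], zero_sub, neg_mem_iff, ← Ideal.map_pow,
        Ideal.mem_map_iff_of_surjective _ Ideal.Quotient.mk_surjective] at h1
      obtain ⟨y, hy, hye⟩ := h1
      have h2 : ι' s ∈ V ^ (j + 1) := by
        have := Ideal.pow_le_pow_right (show j + 1 ≤ d' by omega) (Ideal.Quotient.eq.1 hye)
        simpa using sub_mem hy this
      have h3 : ρ (ι' s) ∈ (V ^ (j + 1)).map ρ := Ideal.mem_map_of_mem _ h2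
      rw [hρι', Ideal.map_pow] at h3
      exact Ideal.pow_right_mono hρV _ h3
  have h0 : ι' s = 0 := by
    refine MvPolynomial.ext _ _ fun m => ?_
    rw [MvPolynomial.coeff_zero]
    have h : ι' s ∈ V ^ (Finsupp.degree m + 1) := by
      refine Ideal.pow_right_mono hιSp _ ?_
      rw [← Ideal.map_pow]
      exact Ideal.mem_map_of_mem _ (hall _)
    exact (MvPolynomial.mem_pow_idealOfVars_iff' _ _).1 h m (Nat.lt_succ_self _)
  rw [← hρι' s, h0, map_zero]

include hz in
/-- **A smooth algebra graded by a sharp monoid is a symmetric algebra over its degree-zero part.** -/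
theorem exists_algEquiv [AddMonoid.FG N] [IsCancelAdd N] [Algebra.FormallySmooth R A] [Algebra.FiniteType R A] :
    ∃ (P : Type u) (_ : AddCommGroup P) (_ : Module (𝒜 0) P), Module.Finite (𝒜 0) P ∧
      Module.Projective (𝒜 0) P ∧ Nonempty (A ≃ₐ[𝒜 0] SymmetricAlgebra (𝒜 0) P) := by
  classical
  haveI : IsScalarTower R (𝒜 0) A := IsScalarTower.of_algebraMap_eq fun _ => rfl
  obtain ⟨J, _, x, d, hd, hx, hQ⟩ := exists_gens 𝒜 hz
  obtain ⟨τ, hτsq, hτ0, hτc, hτdeg⟩ := exists_retraction 𝒜 hz x d hd hx hQ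
  have hxI : ∀ i, x i ∈ irr 𝒜 hz := fun i => eps_of_ne 𝒜 hz (hx i) (hd i)
  let π := comb 𝒜 x
  let e : (J → 𝒜 0) →ₗ[𝒜 0] (J → 𝒜 0) := τ ∘ₗ π
  have hτπ : ∀ a, τ (π (τ a)) = τ a := fun a => by
    have h := hτsq _ (hτc a)
    rw [map_sub, map_sub, hτ0, sub_zero, sub_eq_zero] at h
    exact h.symm
  have he : ∀ c, e (e c) = e c := fun c => hτπ (π c)
  let P := LinearMap.range e
  let sec : (J → 𝒜 0) →ₗ[𝒜 0] P := e.rangeRestrict
  have hsec : sec ∘ₗ P.subtype = LinearMap.id := LinearMap.ext fun p => by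
    obtain ⟨c, hc⟩ := p.2
    refine Subtype.ext ?_
    show e (p : J → 𝒜 0) = p
    rw [← hc, he]
  have hmemP : ∀ a, τ a ∈ P := fun a => ⟨τ a, hτπ a⟩
  let ιS : P →ₗ[𝒜 0] (SymmetricAlgebra (𝒜 0) P) := SymmetricAlgebra.ι (𝒜 0) P
  let φ : (SymmetricAlgebra (𝒜 0) P) →ₐ[𝒜 0] A := SymmetricAlgebra.lift (π ∘ₗ P.subtype)
  have hφι : ∀ p : P, φ (ιS p) = π p := fun p => SymmetricAlgebra.lift_ι_apply _ p
  have hsurj : Function.Surjective φ := by
    have hmem : ∀ n, ∀ a ∈ 𝒜 n, a ∈ φ.range := by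
      intro n
      induction n using (wellFounded_lt hz).induction with
      | _ n IH =>
        intro a ha
        by_cases hn : n = 0
        · subst hn; exact φ.range.algebraMap_mem ⟨a, ha⟩
        have h2 := hτc a
        rw [eps_of_ne 𝒜 hz ha hn] at h2
        simp only [ZeroMemClass.coe_zero, sub_zero] at h2
        have hpr : pr 𝒜 n (comb 𝒜 x (τ a)) = comb 𝒜 x (τ a) := by
          rw [pr_comb 𝒜 x d hx, comb_apply, Finset.sum_filter]
          refine Finset.sum_congr rfl fun i _ => ?_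
          split_ifs with h
          · rfl
          · rw [hτdeg n a ha i h]; simp
        have hsq : ∀ z ∈ irr 𝒜 hz ^ 2, pr 𝒜 n z ∈ φ.range := fun z h =>
          sq_induction 𝒜 hz (p := fun z => pr 𝒜 n z ∈ φ.range) (by rw [map_zero]; exact zero_mem _)
            (fun y w hy hw => by rw [map_add]; exact add_mem hy hw)
            (fun i j hi hj b hb c hc => by
              by_cases h : i + j = n
              · subst h
                rw [pr_of_mem 𝒜 (SetLike.GradedMul.mul_mem hb hc)]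
                exact mul_mem (IH i ⟨j, hj, rfl⟩ b hb) (IH j ⟨i, hi, add_comm j i⟩ c hc)
              · rw [pr_of_ne 𝒜 (SetLike.GradedMul.mul_mem hb hc) h]; exact zero_mem _) h
        have h3 := hsq _ h2
        rw [map_sub, pr_of_mem 𝒜 ha, hpr] at h3
        have h4 : comb 𝒜 x (τ a) ∈ φ.range := ⟨ιS ⟨τ a, hmemP a⟩, hφι _⟩
        simpa using add_mem h3 h4
    intro a
    exact DirectSum.Decomposition.inductionOn 𝒜 (motive := fun a => a ∈ φ.range) (zero_mem _)
      (fun {i} y => hmem i y y.2) (fun y w hy hw => add_mem hy hw) a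
  have hinj : Function.Injective φ := injective_lift (eps 𝒜 hz) (fun b => eps_coe 𝒜 hz b) P sec hsec τ hτsq hτ0
    (π ∘ₗ P.subtype) (fun p => by
      obtain ⟨c, hc⟩ := p.2
      refine ⟨(mem_irr 𝒜 hz).1 (comb_mem 𝒜 hz x _ hxI), ?_⟩
      show e (p : J → 𝒜 0) = p
      rw [← hc, he])
  exact ⟨P, inferInstance, inferInstance, Module.Finite.of_surjective sec e.surjective_rangeRestrict,
    Module.Projective.of_split P.subtype sec hsec, ⟨(AlgEquiv.ofBijective φ ⟨hinj, hsurj⟩).symm⟩⟩

end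

end Groth.Agent.Deform.GradedSmooth
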